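import Mathlib.RingTheory.Valuation.Basic
import Mathlib.RingTheory.IntegralClosure.IntegrallyClosed
import Mathlib.RingTheory.Localization.FractionRing
import Mathlib.RingTheory.Polynomial.IsIntegral
import Groth.Prelude.Def_W4c2filtblowupsingRees

/-!
Rees algebras of valuation filtrations are integrally closed.
-/

set_option autoImplicit false

universe u

open Polynomial

namespace Groth.Agent.ReesNormal

variable {A : Type u} [CommRing A] (w : AddValuation A (WithTop ℤ)) (d : ℕ)

/-- all weighted values of the coefficients are at least `a` -/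
def Bound (f : A[X]) (a : ℤ) : Prop := ∀ k : ℕ, ((a + k * d : ℤ) : WithTop ℤ) ≤ w (f.coeff k)

/-- `k` is the first index attaining the weighted value `a` -/
def Att (f : A[X]) (a : ℤ) (k : ℕ) : Prop :=
  w (f.coeff k) = ((a + k * d : ℤ) : WithTop ℤ) ∧ ∀ l < k, ((a + l * d : ℤ) : WithTop ℤ) < w (f.coeff l)

variable {w d}

lemma Bound.mono {f : A[X]} {a b : ℤ} (h : Bound w d f a) (hb : b ≤ a) : Bound w d f b :=
  fun k => le_trans (WithTop.coe_le_coe.2 (by omega)) (h k)

lemma bound_one : Bound w d 1 0 := by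
  intro k
  rw [coeff_one]
  split_ifs with hk
  · subst hk; simp
  · simp

lemma att_one : Att w d 1 0 0 := ⟨by simp, fun l hl => absurd hl (Nat.not_lt_zero l)⟩

lemma add_coe_eq {a b : ℤ} {i j n : ℕ} (h : i + j = n) :
    ((a + b + n * d : ℤ) : WithTop ℤ) = ((a + i * d : ℤ) : WithTop ℤ) + ((b + j * d : ℤ) : WithTop ℤ) := by
  rw [← WithTop.coe_add, WithTop.coe_eq_coe, ← h]; push_cast; ring

lemma Bound.mul {f g : A[X]} {a b : ℤ} (hf : Bound w d f a) (hg : Bound w d g b) : Bound w d (f * g) (a + b) := by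
  intro n
  rw [coeff_mul]
  refine AddValuation.map_le_sum w fun p hp => ?_
  rw [AddValuation.map_mul, add_coe_eq (Finset.mem_antidiagonal.1 hp)]
  exact add_le_add (hf _) (hg _)

lemma term_lt {f g : A[X]} {a b : ℤ} {k l : ℕ} (hf : Bound w d f a) (hg : Bound w d g b)
    (hf' : Att w d f a k) (hg' : Att w d g b l) {i j n : ℕ} (hij : i + j = n) (h : i < k ∨ j < l) :
    ((a + b + n * d : ℤ) : WithTop ℤ) < w (f.coeff i * g.coeff j) := by
  rw [AddValuation.map_mul, add_coe_eq hij]
  rcases h with h | h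
  · exact WithTop.add_lt_add_of_lt_of_le WithTop.coe_ne_top (hf'.2 i h) (hg j)
  · exact WithTop.add_lt_add_of_le_of_lt WithTop.coe_ne_top (hf i) (hg'.2 j h)

lemma Att.mul {f g : A[X]} {a b : ℤ} {k l : ℕ} (hf : Bound w d f a) (hg : Bound w d g b)
    (hf' : Att w d f a k) (hg' : Att w d g b l) : Att w d (f * g) (a + b) (k + l) := by
  constructor
  · rw [coeff_mul, ← Finset.add_sum_erase _ _ (Finset.mem_antidiagonal.2 (rfl : (k, l).1 + (k, l).2 = k + l))]
    have hmain : w (f.coeff k * g.coeff l) = ((a + b + (k + l : ℕ) * d : ℤ) : WithTop ℤ) := by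
      rw [AddValuation.map_mul, hf'.1, hg'.1, add_coe_eq rfl]
    rw [AddValuation.map_add_eq_of_lt_left]
    · exact hmain
    · rw [hmain]
      refine AddValuation.map_lt_sum w WithTop.coe_ne_top fun p hp => ?_
      obtain ⟨hne, hp⟩ := Finset.mem_erase.1 hp
      rw [Finset.mem_antidiagonal] at hp
      refine term_lt hf hg hf' hg' hp ?_
      by_contra hcon
      apply hne
      ext <;> dsimp only <;> omega
  · intro n hn
    rw [coeff_mul]
    refine AddValuation.map_lt_sum w WithTop.coe_ne_top fun p hp => ?_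
    rw [Finset.mem_antidiagonal] at hp
    exact term_lt hf hg hf' hg' hp (by omega)

lemma pow_bound {f : A[X]} {a : ℤ} (hf : Bound w d f a) (n : ℕ) : Bound w d (f ^ n) (n * a) := by
  induction n with
  | zero => simpa using bound_one (w := w) (d := d)
  | succ n ih => rw [pow_succ, show ((n + 1 : ℕ) : ℤ) * a = n * a + a by push_cast; ring]; exact ih.mul hf

lemma pow_att {f : A[X]} {a : ℤ} {k : ℕ} (hf : Bound w d f a) (hf' : Att w d f a k) (n : ℕ) :
    Att w d (f ^ n) (n * a) (n * k) := by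
  induction n with
  | zero => simpa using att_one (w := w) (d := d)
  | succ n ih =>
    rw [pow_succ, show ((n + 1 : ℕ) : ℤ) * a = n * a + a by push_cast; ring, show (n + 1) * k = n * k + k by ring]
    exact ih.mul (pow_bound hf n) hf hf'

lemma exists_neg_min {f : A[X]} (h : ¬ Bound w d f 0) : ∃ a : ℤ, a < 0 ∧ Bound w d f a ∧ ∃ k, Att w d f a k := by
  classical
  rw [Bound, not_forall] at h
  obtain ⟨k₀, hk₀⟩ := h
  rw [not_le] at hk₀
  let s := f.support.filter fun k => w (f.coeff k) ≠ ⊤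
  let φ : ℕ → ℤ := fun k => (w (f.coeff k)).untopD 0 - k * d
  have hφ : ∀ k ∈ s, w (f.coeff k) = ((φ k + k * d : ℤ) : WithTop ℤ) := by
    intro k hk
    obtain ⟨x, hx⟩ := WithTop.ne_top_iff_exists.1 (Finset.mem_filter.1 hk).2
    simp [φ, ← hx]
  have hmem : ∀ k, w (f.coeff k) ≠ ⊤ → k ∈ s := fun k hk =>
    Finset.mem_filter.2 ⟨mem_support_iff.2 fun h0 => hk (by rw [h0, AddValuation.map_zero]), hk⟩
  have hk₀s : k₀ ∈ s := hmem k₀ (ne_top_of_lt hk₀)
  obtain ⟨k₁, hk₁, hmin⟩ := Finset.exists_min_image s φ ⟨k₀, hk₀s⟩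
  have hb : Bound w d f (φ k₁) := by
    intro k
    by_cases hk : w (f.coeff k) = ⊤
    · rw [hk]; exact le_top
    · rw [hφ k (hmem k hk), WithTop.coe_le_coe]
      linarith [hmin k (hmem k hk)]
  have hex : ∃ k, w (f.coeff k) = ((φ k₁ + k * d : ℤ) : WithTop ℤ) := ⟨k₁, hφ k₁ hk₁⟩
  refine ⟨φ k₁, ?_, hb, Nat.find hex, Nat.find_spec hex, fun l hl => ?_⟩
  · rw [hφ k₀ hk₀s, WithTop.coe_lt_coe] at hk₀
    linarith [hmin k₀ hk₀s]
  · exact lt_of_le_of_ne (hb l) fun e => Nat.find_min hex hl e.symm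

/-- an element integral over polynomials with non-negative weighted values has non-negative values -/
lemma bound_of_root {P : Polynomial A[X]} (hP : P.Monic) (hc : ∀ j, Bound w d (P.coeff j) 0) {f : A[X]}
    (hf : P.eval f = 0) : Bound w d f 0 := by
  by_contra h
  obtain ⟨a, ha, hb, k, hk⟩ := exists_neg_min h
  set n := P.natDegree
  rw [Polynomial.eval_eq_sum_range, Finset.sum_range_succ, hP.coeff_natDegree, one_mul, add_eq_zero_iff_neg_eq] at hf
  have h1 : ((n * a + (n * k : ℕ) * d : ℤ) : WithTop ℤ) <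
      w ((∑ j ∈ Finset.range n, P.coeff j * f ^ j).coeff (n * k)) := by
    rw [finset_sum_coeff]
    refine AddValuation.map_lt_sum w WithTop.coe_ne_top fun j hj => ?_
    refine lt_of_lt_of_le ?_ (((hc j).mul (pow_bound hb j)) (n * k))
    rw [WithTop.coe_lt_coe]
    have : (j : ℤ) < n := by exact_mod_cast Finset.mem_range.1 hj
    nlinarith
  rw [← (pow_att hb hk n).1, ← hf, coeff_neg, AddValuation.map_neg] at h1
  exact lt_irrefl _ h1

section Main

variable {K : Type u} [Field K] [Algebra A K]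

lemma mul_eq_nsmul {q : ℕ} (hq : 0 < q) (x : WithTop ℤ) : (q : WithTop ℤ) * x = q • x := by
  cases x with
  | top =>
    rw [WithTop.mul_top (by exact_mod_cast hq.ne')]
    obtain ⟨m, rfl⟩ := Nat.exists_eq_succ_of_ne_zero hq.ne'
    rw [succ_nsmul, WithTop.add_top]
  | coe y => rw [← WithTop.coe_nsmul, ← WithTop.coe_natCast, ← WithTop.coe_mul, nsmul_eq_mul]

/-- `q • v` on `A` -/
noncomputable def scaled (v : AddValuation K (WithTop ℤ)) (q : ℕ) (hq : 0 < q) : AddValuation A (WithTop ℤ) :=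
  AddValuation.of (fun x => q • v (algebraMap A K x))
    (by rw [map_zero, AddValuation.map_zero]; exact (mul_eq_nsmul hq ⊤).symm.trans (WithTop.mul_top (by exact_mod_cast hq.ne')))
    (by rw [map_one, AddValuation.map_one, nsmul_zero])
    (fun x y => by
      rw [map_add]
      rcases AddValuation.map_add' v (algebraMap A K x) (algebraMap A K y) with h | h
      · exact min_le_iff.2 (Or.inl (nsmul_le_nsmul_right h q))
      · exact min_le_iff.2 (Or.inr (nsmul_le_nsmul_right h q)))
    (fun x y => by rw [map_mul, AddValuation.map_mul, nsmul_add])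

end Main

theorem rees_isIntegrallyClosed [IsDomain A] [IsIntegrallyClosed A] (K : Type u) [Field K] [Algebra A K] (ι : Type)
    (v : ι → AddValuation K (WithTop ℤ)) (p q : ι → ℕ) (hq : ∀ i, 0 < q i) (𝓕 : FiltBl.IdealFiltration A)
    (hF : ∀ (k : ℕ) (x : A), x ∈ 𝓕.F k ↔
      ∀ i, ((k * p i : ℕ) : WithTop ℤ) ≤ (q i : WithTop ℤ) * v i (algebraMap A K x)) :
    IsIntegrallyClosed 𝓕.rees := by
  have key : ∀ f : A[X], f ∈ 𝓕.rees ↔ ∀ i, Bound (scaled (v i) (q i) (hq i)) (p i) f 0 := by
    intro f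
    constructor
    · intro h i k
      have := (hF k (f.coeff k)).1 (h k) i
      rw [mul_eq_nsmul (hq i), ← WithTop.coe_natCast, Nat.cast_mul] at this
      rw [zero_add]
      exact this
    · intro h k
      rw [hF]
      intro i
      have := h i k
      rw [zero_add] at this
      rw [mul_eq_nsmul (hq i), ← WithTop.coe_natCast, Nat.cast_mul]
      exact this
  rw [isIntegrallyClosed_iff (FractionRing 𝓕.rees)]
  intro x hx
  obtain ⟨α, β, hβ, rfl⟩ := IsFractionRing.div_surjective (A := 𝓕.rees) x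
  let B := A[X]
  have hinj : Function.Injective (algebraMap 𝓕.rees B) := Subtype.val_injective
  let F : FractionRing 𝓕.rees →+* FractionRing B :=
    IsFractionRing.lift (g := (algebraMap B (FractionRing B)).comp (algebraMap 𝓕.rees B))
      ((IsFractionRing.injective B (FractionRing B)).comp hinj)
  have hF' : ∀ r : 𝓕.rees, F (algebraMap 𝓕.rees _ r) = algebraMap B _ (algebraMap 𝓕.rees B r) := fun r =>
    IsFractionRing.lift_algebraMap _ r
  obtain ⟨P, hP, hP0⟩ := hx
  have hroot := congrArg F hP0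
  rw [map_zero, Polynomial.hom_eval₂, show F.comp (algebraMap 𝓕.rees _) =
    (algebraMap B (FractionRing B)).comp (algebraMap 𝓕.rees B) from RingHom.ext hF', ← Polynomial.eval₂_map] at hroot
  obtain ⟨γ, hγ⟩ := IsIntegrallyClosed.isIntegral_iff.1
    (⟨P.map (algebraMap 𝓕.rees B), hP.map _, hroot⟩ : IsIntegral B (F (algebraMap 𝓕.rees _ α / algebraMap 𝓕.rees _ β)))
  rw [← hγ, Polynomial.eval₂_at_apply, map_eq_zero_iff _ (IsFractionRing.injective B (FractionRing B))] at hroot
  have hmem : γ ∈ 𝓕.rees := (key γ).2 fun i =>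
    bound_of_root (hP.map (algebraMap 𝓕.rees B))
      (fun j => by rw [Polynomial.coeff_map]; exact (key _).1 (P.coeff j).2 i) hroot
  refine ⟨⟨γ, hmem⟩, F.injective ?_⟩
  rw [hF']
  exact hγ

end Groth.Agent.ReesNormal
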